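import Cfsg.Agent.H324.SUFour.Geo
import Cfsg.Agent.H854.Affine
import Cfsg.Agent.H854.Ab

/-!
# 3-transposition groups `G` with `G / V = SU_4(2)`, `V` elementary abelian: basic facts
-/

set_option autoImplicit false
set_option linter.unusedSectionVars false

namespace Cfsg.Agent.H324.SUFour

open Cfsg Cfsg.Agent.LieClassical.HermBasic Cfsg.Agent.ClassicalGeometry.UnitTransv
open Cfsg.Agent.SporadicStructure.UnitTwo Cfsg.Agent.H854.UForm Cfsg.Agent.H854.UGeo
open Cfsg.Agent.H854.UStab Cfsg.Agent.H854.UBlock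
open Cfsg.Agent.H854 Cfsg.Agent.H854.TM Cfsg.Agent.H854.ClassBasic Cfsg.Agent.H854.Ab
open Subgroup
open scoped Matrix

universe u

variable {F : Type*} [Field F] [Fintype F] {G : Type u} [Group G]

/-- the situation -/
structure Sit (D : Set G) (π : G →* SU 4 F 2) : Prop where
  cls : Cls D
  surj : Function.Surjective π
  two : IsPGroup 2 π.ker
  ab : ∀ x ∈ π.ker, ∀ y ∈ π.ker, x * y = y * x
  sq : ∀ x ∈ π.ker, x * x = 1

section geo

variable (hF : Fintype.card F = 2 ^ 2)
include hF

/-- equal transvections have proportional centres -/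
theorem T_eq {v w : Fin 4 → F} (hv : hermForm 4 F 2 v v = 0) (hw : hermForm 4 F 2 w w = 0)
    (hv0 : v ≠ 0) (h : T hF v hv = T hF w hw) : ∃ c : F, c ≠ 0 ∧ w = c • v := by
  obtain ⟨y, hy⟩ := exists_herm_ne_zero hF hv0
  have hy' : hermForm 4 F 2 y v ≠ 0 := fun h' => hy (herm_eq_zero_swap hF h')
  have h1 := act_T hF v hv y
  rw [h, act_T] at h1
  have h2 := add_left_cancel h1
  have h3 : hermForm 4 F 2 y w ≠ 0 := by
    intro h0
    rw [h0, zero_smul] at h2
    rcases smul_eq_zero.1 h2.symm with h4 | h4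
    · exact hy' h4
    · exact hv0 h4
  refine ⟨(hermForm 4 F 2 y w)⁻¹ * hermForm 4 F 2 y v, mul_ne_zero (inv_ne_zero h3) hy', ?_⟩
  rw [mul_smul, ← h2, smul_smul, inv_mul_cancel₀ h3, one_smul]

theorem T_smul' {v w : Fin 4 → F} (hv : hermForm 4 F 2 v v = 0) (hw : hermForm 4 F 2 w w = 0)
    {c : F} (hc : c ≠ 0) (h : w = c • v) : T hF w hw = T hF v hv := by
  subst h
  exact T_smul hF c hc v hv hw

end geo

namespace Sit

variable {D : Set G} {π : G →* SU 4 F 2} (S : Sit D π) (hF : Fintype.card F = 2 ^ 2)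
include S

theorem mul_sq {d : G} (hd : d ∈ D) : d * d = 1 := S.cls.sq d hd

include hF

theorem pi_ne_one {d : G} (hd : d ∈ D) : π d ≠ 1 := by
  intro h1
  have h2 : ∀ e ∈ D, π e = 1 := by
    intro e he
    obtain ⟨g, rfl⟩ := S.cls.trans d hd e he
    rw [map_mul, map_mul, h1, mul_one, map_inv, mul_inv_cancel]
  have h3 : (⊤ : Subgroup G) ≤ π.ker := by
    rw [← S.cls.gen, closure_le]
    exact fun e he => h2 e he
  obtain ⟨g, hg⟩ := S.surj (T hF _ (u_iso' hF))
  exact T_ne_one hF (u_iso' hF) u_ne (by rw [← hg]; exact h3 (mem_top g))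

theorem form {d : G} (hd : d ∈ D) : ∃ (v : Fin 4 → F) (hv : hermForm 4 F 2 v v = 0), v ≠ 0 ∧
    π d = T hF v hv := by
  apply involution_four hF
  · rw [← map_mul, S.cls.sq d hd, map_one]
  · exact S.pi_ne_one hF hd
  · intro g
    obtain ⟨x, rfl⟩ := S.surj g
    rw [← map_inv, ← map_mul, ← map_mul]
    rcases S.cls.braid d hd _ (S.cls.conj x d hd) with h1 | h1
    · left; rw [← map_mul, h1, map_mul]
    · right; rw [← map_mul, ← map_mul, h1, map_mul, map_mul]

theorem lift {v : Fin 4 → F} (hv : hermForm 4 F 2 v v = 0) (hv0 : v ≠ 0) :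
    ∃ d ∈ D, π d = T hF v hv := by
  obtain ⟨d, hd⟩ := S.cls.nonempty
  obtain ⟨w, hw, hw0, hT⟩ := S.form hF hd
  obtain ⟨g, hg⟩ := iso_trans_four hF hw hw0 hv hv0
  obtain ⟨x, rfl⟩ := S.surj g
  refine ⟨x * d * x⁻¹, S.cls.conj x d hd, ?_⟩
  have h1 := conj_T hF (π x) w hw (by rw [herm_act, hw])
  rw [map_mul, map_mul, map_inv, hT, h1]
  exact T_congr hF hg _ _

omit hF in
theorem comm_iff {d e : G} (hd : d ∈ D) (he : e ∈ D) : d * e = e * d ↔ π d * π e = π e * π d := by
  constructor
  · intro h1
    rw [← map_mul, h1, map_mul]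
  · intro h1
    apply commute_of_mod S.cls S.two hd he
    rw [MonoidHom.mem_ker, map_mul, map_mul]
    calc π d * π e * (π d * π e) = π d * π e * (π e * π d) := by rw [h1]
      _ = π d * (π e * π e) * π d := by simp only [mul_assoc]
      _ = 1 := by
        rw [← map_mul, S.cls.sq e he, map_one, mul_one, ← map_mul, S.cls.sq d hd, map_one]

theorem comm_iff_herm {d e : G} (hd : d ∈ D) (he : e ∈ D) {u v : Fin 4 → F}
    (hu : hermForm 4 F 2 u u = 0) (hv : hermForm 4 F 2 v v = 0) (hdu : π d = T hF u hu)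
    (hev : π e = T hF v hv) : d * e = e * d ↔ hermForm 4 F 2 u v = 0 := by
  rw [S.comm_iff hd he, hdu, hev]
  constructor
  · intro h1
    by_contra h2
    exact not_comm_T hF hu hv h2 h1
  · exact comm_T hF hu hv

theorem map_Kd {d : G} (hd : d ∈ D) {u : Fin 4 → F} (hu : hermForm 4 F 2 u u = 0)
    (hdu : π d = T hF u hu) : (Kd D d).map π = Ku hF u := by
  apply le_antisymm
  · unfold Kd
    rw [map_le_iff_le_comap, closure_le]
    rintro e ⟨he, hc⟩
    obtain ⟨v, hv, hv0, hT⟩ := S.form hF he
    change π e ∈ Ku hF u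
    rw [hT]
    apply T_mem_Ku
    apply herm_eq_zero_swap hF
    exact (S.comm_iff_herm hF hd he hu hv hdu hT).1 hc
  · conv_lhs => unfold Ku
    rw [closure_le]
    rintro _ ⟨x, hx, hx0, hxu, rfl⟩
    obtain ⟨e, he, hT⟩ := S.lift hF hx hx0
    refine ⟨e, subset_closure ⟨he, ?_⟩, hT⟩
    rw [S.comm_iff_herm hF hd he hu hx hdu hT]
    exact herm_eq_zero_swap hF hxu

/-- the image of a conjugate -/
theorem pi_conj (g : G) {d : G} {v : Fin 4 → F} (hv : hermForm 4 F 2 v v = 0)
    (hT : π d = T hF v hv) (hgv : hermForm 4 F 2 (act (π g) v) (act (π g) v) = 0) :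
    π (g * d * g⁻¹) = T hF (act (π g) v) hgv := by
  rw [map_mul, map_mul, map_inv, hT, conj_T hF (π g) v hv hgv]

/-- elements with the same image commute -/
theorem comm_of_eq {x y : G} (hx : x ∈ D) (hy : y ∈ D) (h : π x = π y) : x * y = y * x := by
  rw [S.comm_iff hx hy, h]

end Sit

/-! ### The central element of an affine plane -/

section aff

variable {D : Set G} {π : G →* SU 4 F 2} (S : Sit D π) (hF : Fintype.card F = 2 ^ 2)
include S

/-- the module -/
theorem Sit.exists_model : ∃ (M : Type u) (_ : AddCommGroup M) (_ : DistribMulAction G M)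
    (ι : M → G), IsTM D M ∧ (∀ x ∈ π.ker, ∃ m, ι m = x) ∧ Function.Injective ι ∧
      (∀ m n, ι (m + n) = ι m * ι n) ∧ ∀ (g : G) (m : M), ι (g • m) = g * ι m * g⁻¹ := by
  let V : Subgroup G := π.ker
  have hVn : V.Normal := MonoidHom.normal_ker π
  have h2 : ∀ a ∈ V, a * a = 1 := S.sq
  letI iA : AddCommGroup (Additive V) :=
    { (inferInstance : AddGroup (Additive V)) with
      add_comm := fun a b => by
        apply Additive.toMul.injective
        exact Subtype.ext (S.ab _ (Additive.toMul a).2 _ (Additive.toMul b).2) }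
  letI iB : DistribMulAction G (Additive V) :=
    { smul := fun g m => Additive.ofMul (MulAut.conjNormal g (Additive.toMul m))
      one_smul := fun m => by
        change Additive.ofMul (MulAut.conjNormal 1 (Additive.toMul m)) = m
        rw [map_one]; rfl
      mul_smul := fun a b m => by
        change Additive.ofMul (MulAut.conjNormal (a * b) (Additive.toMul m)) = _
        rw [map_mul]; rfl
      smul_zero := fun a => by
        change Additive.ofMul (MulAut.conjNormal a (Additive.toMul (0 : Additive V))) = 0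
        rw [toMul_zero, map_one, ofMul_one]
      smul_add := fun a m n => by
        change Additive.ofMul (MulAut.conjNormal a (Additive.toMul (m + n))) = _
        rw [toMul_add, map_mul]; rfl }
  have hsm : ∀ (g : G) (m : Additive V),
      ((Additive.toMul (g • m) : V) : G) = g * ((Additive.toMul m : V) : G) * g⁻¹ := by
    intro g m
    exact MulAut.conjNormal_apply g _
  have hext : ∀ m n : Additive V, ((Additive.toMul m : V) : G) = ((Additive.toMul n : V) : G) →
      m = n := fun m n h => Additive.toMul.injective (Subtype.ext h)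
  have hadd : ∀ m n : Additive V, ((Additive.toMul (m + n) : V) : G) =
      ((Additive.toMul m : V) : G) * ((Additive.toMul n : V) : G) := fun m n => rfl
  have htwo : ∀ m : Additive V, m + m = 0 := by
    intro m
    apply hext
    rw [hadd]
    exact h2 _ (Additive.toMul m).2
  refine ⟨Additive V, iA, iB, fun m => ((Additive.toMul m : V) : G), ?_, ?_, ?_, ?_, ?_⟩
  · refine ⟨htwo, S.cls.sq, S.cls.conj, S.cls.braid, ?_, ?_⟩
    · intro d hd e he hde m
      apply hext
      rw [hsm, hadd, hsm]
      have hdd := S.cls.sq d hd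
      have hee := S.cls.sq e he
      have hm := (Additive.toMul m).2
      generalize hx : ((Additive.toMul m : V) : G) = x at hm ⊢
      have hxx : x * x = 1 := h2 x hm
      have h3 := commute_conj_of_commute S.cls hVn S.two hd he hde hm
      rw [inv_of_sq hxx] at h3
      rw [inv_of_sq hdd, inv_of_sq hee]
      calc e * (x * (d * x * d)) * e = (e * (x * d * x)) * (d * e) := by simp only [mul_assoc]
        _ = ((x * d * x) * e) * (e * d) := by rw [← h3, hde]
        _ = (x * d * x) * (e * e) * d := by simp only [mul_assoc]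
        _ = x * (d * x * d) := by rw [hee, mul_one]; simp only [mul_assoc]
    · intro d hd e he hde m hm
      have h3 := congrArg (fun y : Additive V => ((Additive.toMul y : V) : G)) hm
      rw [hsm] at h3
      apply hext
      rw [hsm]
      have hmem := (Additive.toMul m).2
      generalize hx : ((Additive.toMul m : V) : G) = x at h3 hmem ⊢
      have h4 : (d * e) * x = x * (d * e) := by
        rw [mul_inv_eq_iff_eq_mul] at h3
        exact h3
      have h5 := commute_of_commute_mul S.cls hVn S.two hd he hde hmem h4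
      rw [h5, mul_inv_cancel_right]
  · intro x hx
    exact ⟨Additive.ofMul ⟨x, hx⟩, rfl⟩
  · intro m n h
    exact hext m n h
  · exact hadd
  · exact hsm


end aff

end Cfsg.Agent.H324.SUFour
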