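import Cfsg.Agent.H324.SUFour.Base

/-!
# 3-transposition groups `G` with `G / V = SU_4(2)`: fixed points in the classes modulo `V`
-/

set_option autoImplicit false
set_option linter.unusedSectionVars false

namespace Cfsg.Agent.H324.SUFour

open Cfsg Cfsg.Agent.LieClassical.HermBasic Cfsg.Agent.ClassicalGeometry.UnitTransv
open Cfsg.Agent.SporadicStructure.UnitTwo Cfsg.Agent.H854.UForm Cfsg.Agent.H854.UGeo
open Cfsg.Agent.H854.UStab Cfsg.Agent.H854.UBlock
open Cfsg.Agent.H854 Cfsg.Agent.H854.TM Cfsg.Agent.H854.ClassBasic Cfsg.Agent.H854.Ab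
open Subgroup
open scoped Matrix

universe u

section group

variable {G : Type*} [Group G]

theorem conj_ne {a b : G} (g : G) (h : a * b ≠ b * a) :
    (g * a * g⁻¹) * (g * b * g⁻¹) ≠ (g * b * g⁻¹) * (g * a * g⁻¹) := by
  intro h1
  apply h
  have e1 : a * b = g⁻¹ * ((g * a * g⁻¹) * (g * b * g⁻¹)) * g := by group
  have e2 : b * a = g⁻¹ * ((g * b * g⁻¹) * (g * a * g⁻¹)) * g := by group
  rw [e1, e2, h1]

theorem conj_comm {a b : G} (g : G) (h : a * b = b * a) :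
    (g * a * g⁻¹) * (g * b * g⁻¹) = (g * b * g⁻¹) * (g * a * g⁻¹) := by
  have e1 : (g * a * g⁻¹) * (g * b * g⁻¹) = g * (a * b) * g⁻¹ := by group
  have e2 : (g * b * g⁻¹) * (g * a * g⁻¹) = g * (b * a) * g⁻¹ := by group
  rw [e1, e2, h]

theorem aff_conj {D : Set G} (hD : ∀ g : G, ∀ d ∈ D, g * d * g⁻¹ ∈ D) (g : G) {x a b : G}
    (A : Aff D x a b) : Aff D (g * x * g⁻¹) (g * a * g⁻¹) (g * b * g⁻¹) := by
  refine ⟨hD g _ A.hf, hD g _ A.hg, hD g _ A.hh, conj_ne g A.fg, conj_ne g A.fh, conj_ne g A.gh, ?_⟩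
  have e1 : g * x * g⁻¹ * (g * a * g⁻¹) * (g * x * g⁻¹) = g * (x * a * x) * g⁻¹ := by group
  rw [e1]
  exact conj_ne g A.fgfh

theorem zeta_conj (g x a b : G) : Aff.zeta (g * x * g⁻¹) (g * a * g⁻¹) (g * b * g⁻¹) =
    g * Aff.zeta x a b * g⁻¹ := by
  unfold Aff.zeta
  group

end group

theorem zeta_swap {G M : Type*} [Group G] [AddCommGroup M] [DistribMulAction G M] {D : Set G}
    (hM : IsTM D M) {x a b : G} (A : Aff D x a b) :
    Aff.zeta a x b = (Aff.zeta x a b)⁻¹ := by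
  obtain ⟨c1, c2, -⟩ := A.zeta_spec hM
  have hxx := hM.sq x A.hf
  have haa := hM.sq a A.hg
  have hz : Aff.zeta x a b = (x * a) * (x * b) * (x * a)⁻¹ * (x * b)⁻¹ := rfl
  have e1 : a * x = (x * a)⁻¹ := by rw [mul_inv_rev, inv_of_sq hxx, inv_of_sq haa]
  have e2 : a * b = (x * a)⁻¹ * (x * b) := by
    rw [← e1]
    calc a * b = a * (x * x) * b := by rw [hxx, mul_one]
      _ = a * x * (x * b) := by simp only [mul_assoc]
  unfold Aff.zeta at hz c1 c2 ⊢
  rw [e1, e2]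
  generalize x * a = s at *
  generalize x * b = t at *
  have c3 : Commute (s⁻¹ * s⁻¹) (s * t * s⁻¹ * t⁻¹)⁻¹ := (c1.inv_left.mul_left c1.inv_left).inv_right
  calc s⁻¹ * (s⁻¹ * t) * s⁻¹⁻¹ * (s⁻¹ * t)⁻¹
      = (s⁻¹ * s⁻¹) * (s * t * s⁻¹ * t⁻¹)⁻¹ * (s * s) := by group
    _ = (s * t * s⁻¹ * t⁻¹)⁻¹ * (s⁻¹ * s⁻¹) * (s * s) := by rw [c3.eq]
    _ = (s * t * s⁻¹ * t⁻¹)⁻¹ := by group

variable {F : Type*} [Field F] [Fintype F] {G : Type u} [Group G]

namespace Sit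

variable {D : Set G} {π : G →* SU 4 F 2} (S : Sit D π)
include S

/-- no fixed points of the central element of an affine plane on `[V, x]` -/
theorem no_fix {x a b : G} (A : Aff D x a b) {m : G} (hm : m ∈ π.ker)
    (hc : Aff.zeta x a b * (m * x * m⁻¹ * x⁻¹) = (m * x * m⁻¹ * x⁻¹) * Aff.zeta x a b) :
    m * x * m⁻¹ * x⁻¹ = 1 := by
  obtain ⟨M, iA, iB, ι, hM, hs, hi, hadd, hsm⟩ := S.exists_model
  have hxx := S.cls.sq x A.hf
  have haa := S.cls.sq a A.hg
  obtain ⟨m', rfl⟩ := hs m hm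
  have hz : ι (m' + x • m') = ι m' * x * (ι m')⁻¹ * x⁻¹ := by
    rw [hadd, hsm, inv_of_sq (S.sq _ hm)]
    simp only [mul_assoc]
  rw [← hz] at hc ⊢
  have ι0 : ι 0 = 1 := by
    have h1 := hadd 0 0
    rw [add_zero] at h1
    exact (mul_eq_left.1 h1.symm)
  obtain ⟨z, hzd⟩ : ∃ z, z = m' + x • m' := ⟨_, rfl⟩
  rw [← hzd] at hc ⊢
  have h1 : Aff.zeta x a b • z = z := by
    apply hi
    rw [hsm, hc, mul_inv_cancel_right]
  have h2 : (Aff.zeta x a b)⁻¹ • z = z := by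
    nth_rewrite 1 [← h1]
    rw [smul_smul, inv_mul_cancel, one_smul]
  have hbr : x * a * x = a * x * a := (S.cls.braid x A.hf a A.hg).resolve_left A.fg
  have A' : Aff D a x b := by
    refine ⟨A.hg, A.hf, A.hh, A.fg.symm, A.gh, A.fh, ?_⟩
    rw [← hbr]
    exact A.fgfh
  have h3 : a • z = z := by
    apply A'.fix_f hM
    rw [zeta_swap hM A]
    exact h2
  have h4 := hM.eq_zero_of_fix A.hf A.hg A.fg hzd h3
  rw [h4, ι0]

variable (hF : Fintype.card F = 2 ^ 2)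

omit S [Group G] in
theorem inv_act {g : SU 4 F 2} {a b : Fin 4 → F} (h : act g a = b) : act g⁻¹ b = a := by
  rw [← h, act_inv_act]

include hF

theorem exists_plane {ω : F} (hω : ω ^ 2 + ω + 1 = 0) {x : G} (hx : x ∈ D) {v : Fin 4 → F}
    (hv : hermForm 4 F 2 v v = 0) (hT : π x = T hF v hv) :
    ∃ a b, Aff D x a b ∧ act (π (Aff.zeta x a b)) v = ω • v := by
  have h2 := two_eq_zero hF
  have hω0 : ω ≠ 0 := by rintro rfl; simp at hω
  have hω3 := pow_three hF hω0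
  have n0 : hermForm 4 F 2 (e 0) (e 0) = 1 := by rw [herm_e_right hF, e_self]
  have n1 : hermForm 4 F 2 (e 1) (e 1) = 1 := by rw [herm_e_right hF, e_self]
  have n2 : hermForm 4 F 2 (e 2) (e 2) = 1 := by rw [herm_e_right hF, e_self]
  have n01 : hermForm 4 F 2 (e 0) (e 1) = 0 := by rw [herm_e_right hF, e_ne (by decide)]
  have n02 : hermForm 4 F 2 (e 0) (e 2) = 0 := by rw [herm_e_right hF, e_ne (by decide)]
  have n12 : hermForm 4 F 2 (e 1) (e 2) = 0 := by rw [herm_e_right hF, e_ne (by decide)]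
  have n10 := herm_eq_zero_swap hF n01
  have n20 := herm_eq_zero_swap hF n02
  have n21 := herm_eq_zero_swap hF n12
  have n01' : hermForm 4 F 2 (e 0) (ω • e 1) = 0 := by rw [herm_smul_right, n01, mul_zero]
  have i0 := iso_add hF n0 n1 n01
  have i1 := iso_add hF n0 (norm_smul hF hω3 n1) n01'
  have i2 := iso_add hF n1 n2 n12
  have ne1 : (e 0 + ω • e 1 : Fin 4 → F) ≠ 0 := by
    intro h
    have := congrFun h 0
    rw [Pi.add_apply, Pi.smul_apply, e_self, e_ne (by decide), smul_zero, add_zero] at this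
    exact one_ne_zero this
  have ne2 : (e 1 + e 2 : Fin 4 → F) ≠ 0 := by
    intro h
    have := congrFun h 1
    rw [Pi.add_apply, e_self, e_ne (by decide), add_zero] at this
    exact one_ne_zero this
  obtain ⟨x0, hx0, hTx⟩ := S.lift hF i0 u_ne
  obtain ⟨a0, ha0, hTa⟩ := S.lift hF i1 ne1
  obtain ⟨b0, hb0, hTb⟩ := S.lift hF i2 ne2
  have hxx := S.cls.sq x0 hx0
  have fg : x0 * a0 ≠ a0 * x0 := by
    rw [Ne, S.comm_iff_herm hF hx0 ha0 i0 i1 hTx hTa]
    simp only [herm_add_left, herm_add_right hF, herm_smul_right, n0, n1, n01, n10]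
    intro h
    grind
  have fh : x0 * b0 ≠ b0 * x0 := by
    rw [Ne, S.comm_iff_herm hF hx0 hb0 i0 i2 hTx hTb]
    simp only [herm_add_left, herm_add_right hF, n1, n01, n02, n12]
    intro h
    grind
  have gh : a0 * b0 ≠ b0 * a0 := by
    rw [Ne, S.comm_iff_herm hF ha0 hb0 i1 i2 hTa hTb]
    simp only [herm_add_left, herm_add_right hF, herm_smul_left, n1, n01, n02, n12]
    intro h
    grind
  have fgfh : (x0 * a0 * x0) * b0 ≠ b0 * (x0 * a0 * x0) := by
    have hD : x0 * a0 * x0⁻¹ ∈ D := S.cls.conj x0 a0 ha0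
    have hvv : hermForm 4 F 2 (act (π x0) (e 0 + ω • e 1)) (act (π x0) (e 0 + ω • e 1)) = 0 := by
      rw [herm_act, i1]
    have h1 := S.pi_conj hF x0 i1 hTa hvv
    have e1 : x0 * a0 * x0 = x0 * a0 * x0⁻¹ := by rw [inv_of_sq hxx]
    rw [e1, Ne, S.comm_iff_herm hF hD hb0 hvv i2 h1 hTb, hTx, act_T]
    simp only [herm_add_left, herm_add_right hF, herm_smul_left, n0, n1, n01, n10, n02, n12]
    intro h
    grind
  have A0 : Aff D x0 a0 b0 := ⟨hx0, ha0, hb0, fg, fh, gh, fgfh⟩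
  -- the central element
  obtain ⟨s, hs⟩ : ∃ s, s = π (x0 * a0) := ⟨_, rfl⟩
  obtain ⟨t, ht⟩ : ∃ t, t = π (x0 * b0) := ⟨_, rfl⟩
  have s0 : act s (e 0) = ω • e 0 := by
    rw [hs, map_mul, hTx, hTa, act_mul, swap_left hF n0 n01' i1, act_smul, swap_right hF n1 n01 i0]
  have s1 : act s (e 1) = ω ^ 2 • e 1 := by
    have e0 : (e 1 : Fin 4 → F) = ω ^ 2 • (ω • e 1) := by
      rw [smul_smul]
      have : ω ^ 2 * ω = 1 := by rw [← hω3]; ring
      rw [this, one_smul]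
    nth_rewrite 1 [e0]
    rw [hs, map_mul, hTx, hTa, act_smul, act_mul, swap_right hF (norm_smul hF hω3 n1) n01' i1,
      swap_left hF n0 n01 i0]
  have s2 : act s (e 2) = e 2 := by
    rw [hs, map_mul, hTx, hTa, act_mul, swap_perp hF n20 (by rw [herm_smul_right, n21, mul_zero]) i1,
      swap_perp hF n20 n21 i0]
  have t0 : act t (e 0) = e 1 := by
    rw [ht, map_mul, hTx, hTb, act_mul, swap_perp hF n01 n02 i2, swap_left hF n0 n01 i0]
  have t1 : act t (e 1) = e 2 := by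
    rw [ht, map_mul, hTx, hTb, act_mul, swap_left hF n1 n12 i2, swap_perp hF n20 n21 i0]
  have t2 : act t (e 2) = e 0 := by
    rw [ht, map_mul, hTx, hTb, act_mul, swap_right hF n2 n12 i2, swap_right hF n1 n01 i0]
  have s0' : act s (ω ^ 2 • e 0) = e 0 := by
    rw [act_smul, s0, smul_smul]
    have : ω ^ 2 * ω = 1 := by rw [← hω3]; ring
    rw [this, one_smul]
  have hζ : π (Aff.zeta x0 a0 b0) = s * t * s⁻¹ * t⁻¹ := by
    unfold Aff.zeta
    rw [map_mul, map_mul, map_mul, map_inv, map_inv, ← hs, ← ht]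
  have z0 : act (s * t * s⁻¹ * t⁻¹) (e 0) = ω • e 0 := by
    rw [act_mul, act_mul, act_mul, inv_act t2, inv_act s2, t2, s0]
  have z1 : act (s * t * s⁻¹ * t⁻¹) (e 1) = ω • e 1 := by
    rw [act_mul, act_mul, act_mul, inv_act t0, inv_act s0', act_smul, t0, act_smul, s1, smul_smul]
    congr 1
    rw [← pow_add, show 2 + 2 = 3 + 1 by norm_num, pow_succ, hω3, one_mul]
  have zz : act (π (Aff.zeta x0 a0 b0)) (e 0 + e 1) = ω • (e 0 + e 1) := by
    rw [hζ, act_add, z0, z1, smul_add]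
  -- transport
  obtain ⟨g, hg⟩ := S.cls.trans x0 hx0 x hx
  have hgv : hermForm 4 F 2 (act (π g) (e 0 + e 1)) (act (π g) (e 0 + e 1)) = 0 := by
    rw [herm_act, i0]
  have h1 := S.pi_conj hF g i0 hTx hgv
  rw [hg, hT] at h1
  have hg0 : act (π g) (e 0 + e 1) ≠ 0 := by
    intro h
    apply u_ne (F := F)
    rw [← act_inv_act (π g) (e 0 + e 1), h, act_zero]
  obtain ⟨c, hc, hcv⟩ := T_eq hF hgv hv hg0 h1.symm
  have A1 := aff_conj S.cls.conj g A0
  have hz1 := zeta_conj g x0 a0 b0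
  rw [hg] at A1 hz1
  refine ⟨_, _, A1, ?_⟩
  rw [hz1, hcv, act_smul, map_mul, map_mul, map_inv, act_mul, act_mul, act_inv_act, zz, act_smul,
    smul_comm]

/-- an element of `G` acting on the centre of `x` as a scalar differs from a power of the central
element of a plane by an element fixing the centre -/
theorem scalar_cases {ω c : F} (hω : ω ^ 2 + ω + 1 = 0) (hc : c ≠ 0) :
    c = 1 ∨ c = ω ∨ c = ω ^ 2 := by
  have h3 := pow_three hF hc
  have h2 := two_eq_zero hF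
  have h4 : (c - 1) * ((c - ω) * (c - ω ^ 2)) = 0 := by
    have h5 : ω ^ 3 = 1 := by linear_combination (ω - 1) * hω
    linear_combination h3 - (c ^ 2 - c) * hω - (1 - c) * h5
  rcases mul_eq_zero.1 h4 with h | h
  · exact Or.inl (sub_eq_zero.1 h)
  · rcases mul_eq_zero.1 h with h | h
    · exact Or.inr (Or.inl (sub_eq_zero.1 h))
    · exact Or.inr (Or.inr (sub_eq_zero.1 h))

/-- elements of `G` whose image fixes the centre of `x` -/
theorem exists_Kd {x : G} (hx : x ∈ D) {v : Fin 4 → F} (hv : hermForm 4 F 2 v v = 0)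
    (hv0 : v ≠ 0) (hT : π x = T hF v hv) {g : G} (hg : act (π g) v = v) :
    ∃ k ∈ Kd D x, ∃ m ∈ π.ker, g = m * k := by
  have h1 := stab_four hF hv hv0 hg
  rw [← S.map_Kd hF hx hv hT] at h1
  obtain ⟨k, hk, hkg⟩ := h1
  refine ⟨k, hk, g * k⁻¹, ?_, by group⟩
  rw [MonoidHom.mem_ker, map_mul, map_inv, hkg, mul_inv_cancel]

/-- correcting an element acting as a scalar by the central element of an affine plane -/
theorem exists_corr {x : G} (hx : x ∈ D) {v : Fin 4 → F} (hv : hermForm 4 F 2 v v = 0)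
    (hT : π x = T hF v hv) {g : G} {c : F} (hc : c ≠ 0) (hg : act (π g) v = c • v) :
    ∃ a b, Aff D x a b ∧
      ∃ k : G, ((c = 1 ∧ k = g) ∨ k = g * Aff.zeta x a b ∨ k = g * (Aff.zeta x a b)⁻¹) ∧
        act (π k) v = v := by
  obtain ⟨ω, hω⟩ := exists_omega hF
  have hω0 : ω ≠ 0 := by rintro rfl; simp at hω
  have hω3 := pow_three hF hω0
  have hω3' : ω ^ 2 * ω = 1 := by rw [← hω3]; ring
  obtain ⟨a, b, A, hz⟩ := S.exists_plane hF hω hx hv hT
  refine ⟨a, b, A, ?_⟩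
  have hz' : act (π (Aff.zeta x a b))⁻¹ (ω • v) = v := inv_act hz
  have hz2 : act (π (Aff.zeta x a b))⁻¹ v = ω ^ 2 • v := by
    rw [act_smul] at hz'
    nth_rewrite 2 [← hz']
    rw [smul_smul, hω3', one_smul]
  rcases scalar_cases (S := S) hF hω hc with rfl | rfl | rfl
  · exact ⟨g, Or.inl ⟨rfl, rfl⟩, by rw [hg, one_smul]⟩
  · refine ⟨_, Or.inr (Or.inr rfl), ?_⟩
    rw [map_mul, map_inv, act_mul, hz2, act_smul, hg, smul_smul, hω3', one_smul]
  · refine ⟨_, Or.inr (Or.inl rfl), ?_⟩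
    rw [map_mul, act_mul, hz, act_smul, hg, smul_smul, mul_comm, hω3', one_smul]

/-- the members of `D` with the same image form one orbit under the kernel -/
theorem single_orbit {x x' : G} (hx : x ∈ D) (hx' : x' ∈ D) (h : π x = π x') :
    ∃ m ∈ π.ker, x' = m * x * m⁻¹ := by
  obtain ⟨M, iA, iB, ι, hM, -⟩ := S.exists_model
  obtain ⟨v, hv, hv0, hT⟩ := S.form hF hx
  obtain ⟨g, hg⟩ := S.cls.trans x hx x' hx'
  have hgv : hermForm 4 F 2 (act (π g) v) (act (π g) v) = 0 := by rw [herm_act, hv]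
  have h1 := S.pi_conj hF g hv hT hgv
  rw [hg, ← h, hT] at h1
  obtain ⟨c, hc, hcv⟩ := T_eq hF hv hgv hv0 h1
  obtain ⟨a, b, A, k, hk, hkv⟩ := S.exists_corr hF hx hv hT hc hcv
  have hxx := S.cls.sq x hx
  have cz : Commute x (Aff.zeta x a b) := by
    have h2 := A.commute_f hM
    have : x * Aff.zeta x a b = x * (x * Aff.zeta x a b * x) := by rw [h2]
    rw [mul_assoc, ← mul_assoc x x, hxx, one_mul] at this
    exact this
  have hkx : k * x * k⁻¹ = x' := by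
    rw [← hg]
    rcases hk with ⟨-, rfl⟩ | rfl | rfl
    · rfl
    · calc g * Aff.zeta x a b * x * (g * Aff.zeta x a b)⁻¹
          = g * (Aff.zeta x a b * x) * (Aff.zeta x a b)⁻¹ * g⁻¹ := by group
        _ = g * (x * Aff.zeta x a b) * (Aff.zeta x a b)⁻¹ * g⁻¹ := by rw [cz.eq]
        _ = g * x * g⁻¹ := by group
    · calc g * (Aff.zeta x a b)⁻¹ * x * (g * (Aff.zeta x a b)⁻¹)⁻¹
          = g * (Aff.zeta x a b)⁻¹ * (x * Aff.zeta x a b) * g⁻¹ := by group
        _ = g * (Aff.zeta x a b)⁻¹ * (Aff.zeta x a b * x) * g⁻¹ := by rw [cz.eq]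
        _ = g * x * g⁻¹ := by group
  obtain ⟨k0, hk0, m, hm, rfl⟩ := S.exists_Kd hF hx hv hv0 hT hkv
  refine ⟨m, hm, ?_⟩
  have c0 := Kd_comm hk0
  rw [← hkx]
  calc m * k0 * x * (m * k0)⁻¹ = m * (k0 * x) * k0⁻¹ * m⁻¹ := by group
    _ = m * (x * k0) * k0⁻¹ * m⁻¹ := by rw [c0]
    _ = m * x * m⁻¹ := by group

theorem no_fix' {x : G} (hx : x ∈ D) {v : Fin 4 → F} (hv : hermForm 4 F 2 v v = 0)
    (hv0 : v ≠ 0) (hT : π x = T hF v hv) {g : G} {c : F} (hc : c ≠ 0) (hc1 : c ≠ 1)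
    (hg : act (π g) v = c • v) {m : G} (hm : m ∈ π.ker)
    (hδ : g * (m * x * m⁻¹ * x⁻¹) = (m * x * m⁻¹ * x⁻¹) * g) : m * x * m⁻¹ * x⁻¹ = 1 := by
  obtain ⟨a, b, A, k, hk, hkv⟩ := S.exists_corr hF hx hv hT hc hg
  obtain ⟨k0, hk0, m0, hm0, hkm⟩ := S.exists_Kd hF hx hv hv0 hT hkv
  have hn : π.ker.Normal := MonoidHom.normal_ker π
  have hA : m * x * m⁻¹ * x⁻¹ ∈ Ad π.ker x := subset_closure ⟨m, hm, rfl⟩
  have c1 := Kd_comm_Ad S.cls hn S.two hx hk0 hA
  have c2 := S.ab m0 hm0 _ (Ad_le hn x hA)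
  have c3 : Commute k (m * x * m⁻¹ * x⁻¹) := by
    rw [hkm]
    exact (show Commute _ _ from c2).mul_left c1
  have c4 : Commute g (m * x * m⁻¹ * x⁻¹) := hδ
  apply S.no_fix A hm
  rcases hk with ⟨h1, -⟩ | rfl | rfl
  · exact absurd h1 hc1
  · have : Aff.zeta x a b = g⁻¹ * (g * Aff.zeta x a b) := by group
    rw [this]
    exact (c4.inv_left.mul_left c3).eq
  · have : Aff.zeta x a b = (g * (Aff.zeta x a b)⁻¹)⁻¹ * g := by group
    rw [this]
    exact (c3.inv_left.mul_left c4).eq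

/-- uniqueness of the fixed point -/
theorem fix_unique {x x' : G} (hx : x ∈ D) (hx' : x' ∈ D) (h : π x = π x') {v : Fin 4 → F}
    (hv : hermForm 4 F 2 v v = 0) (hv0 : v ≠ 0) (hT : π x = T hF v hv) {g : G} {c : F}
    (hc : c ≠ 0) (hc1 : c ≠ 1) (hg : act (π g) v = c • v) (h1 : g * x = x * g)
    (h2 : g * x' = x' * g) : x' = x := by
  obtain ⟨m, hm, rfl⟩ := S.single_orbit hF hx hx' h
  have h3 : m * x * m⁻¹ * x⁻¹ = 1 := by
    apply S.no_fix' hF hx hv hv0 hT hc hc1 hg hm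
    have c1 : Commute g x := h1
    have c2 : Commute g (m * x * m⁻¹) := h2
    exact (c2.mul_right c1.inv_right).eq
  exact mul_inv_eq_one.1 h3

/-- existence of the fixed point -/
theorem fix_exists {v : Fin 4 → F} (hv : hermForm 4 F 2 v v = 0) (hv0 : v ≠ 0) {g : G}
    (h3 : g * g * g = 1) {c : F} (hc : c ≠ 0) (hg : act (π g) v = c • v) :
    ∃ x ∈ D, π x = T hF v hv ∧ g * x = x * g := by
  obtain ⟨d, hd, hT⟩ := S.lift hF hv hv0
  have step : ∀ y ∈ D, π y = T hF v hv → π (g * y * g⁻¹) = T hF v hv := by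
    intro y hy hTy
    have hgv : hermForm 4 F 2 (act (π g) v) (act (π g) v) = 0 := by rw [herm_act, hv]
    rw [S.pi_conj hF g hv hTy hgv]
    exact T_smul' hF hv hgv hc hg
  have hd1 := S.cls.conj g d hd
  have hT1 := step d hd hT
  have hd2 := S.cls.conj g _ hd1
  have hT2 := step _ hd1 hT1
  obtain ⟨m, hm, h1⟩ := S.single_orbit hF hd hd1 (hT.trans hT1.symm)
  obtain ⟨n, hn, h2⟩ := S.single_orbit hF hd hd2 (hT.trans hT2.symm)
  have c01 := S.comm_of_eq hF hd hd1 (hT.trans hT1.symm)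
  have c02 := S.comm_of_eq hF hd hd2 (hT.trans hT2.symm)
  have c12 := S.comm_of_eq hF hd1 hd2 (hT1.trans hT2.symm)
  have hdd := S.cls.sq d hd
  refine ⟨d * (g * d * g⁻¹) * (g * (g * d * g⁻¹) * g⁻¹), ?_, ?_, ?_⟩
  · have e1 : d * (g * d * g⁻¹) * (g * (g * d * g⁻¹) * g⁻¹) = (m * n) * d * (m * n)⁻¹ := by
      have hv2 : g * (g * d * g⁻¹) * g⁻¹ * d ∈ π.ker := by
        rw [MonoidHom.mem_ker, map_mul, hT2, hT, T_mul_self]
      have hc := S.ab m hm _ hv2
      generalize g * (g * d * g⁻¹) * g⁻¹ = y2 at *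
      generalize g * d * g⁻¹ = y1 at *
      calc d * y1 * y2 = y2 * d * y1 := by rw [mul_assoc, c12, ← mul_assoc, c02]
        _ = y2 * d * (m * d * m⁻¹) := by rw [h1]
        _ = (y2 * d * m) * d * m⁻¹ := by simp only [mul_assoc]
        _ = (m * (y2 * d)) * d * m⁻¹ := by rw [hc]
        _ = m * (y2 * (d * d)) * m⁻¹ := by simp only [mul_assoc]
        _ = m * (n * d * n⁻¹) * m⁻¹ := by rw [hdd, mul_one, h2]
        _ = (m * n) * d * (m * n)⁻¹ := by group
    rw [e1]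
    exact S.cls.conj _ d hd
  · rw [map_mul, map_mul, hT, hT1, hT2, T_mul_self, one_mul]
  · generalize hy1 : g * d * g⁻¹ = y1 at *
    generalize hy2 : g * y1 * g⁻¹ = y2 at *
    have e1 : g * d = y1 * g := by rw [← hy1]; group
    have e2 : g * y1 = y2 * g := by rw [← hy2]; group
    have e3 : g * y2 = d * g := by
      rw [← hy2, ← hy1]
      calc g * (g * (g * d * g⁻¹) * g⁻¹) = (g * g * g) * d * (g * g * g)⁻¹ * g := by group
        _ = d * g := by rw [h3]; group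
    calc g * (d * y1 * y2) = (g * d) * y1 * y2 := by simp only [mul_assoc]
      _ = y1 * (g * y1) * y2 := by rw [e1]; simp only [mul_assoc]
      _ = y1 * y2 * (g * y2) := by rw [e2]; simp only [mul_assoc]
      _ = (y1 * y2) * d * g := by rw [e3]; simp only [mul_assoc]
      _ = d * y1 * y2 * g := by
        have : y1 * y2 * d = d * y1 * y2 := by
          rw [mul_assoc, ← c02, ← mul_assoc, ← c01]
        rw [this]

end Sit

end Cfsg.Agent.H324.SUFour
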