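import Cfsg.Agent.H854.UBlock

/-!
# The group `SU_4(2)`: 3-transpositions, isotropic vectors, diagonal elements
-/

set_option autoImplicit false
set_option linter.unusedSectionVars false

namespace Cfsg.Agent.H324.SUFour

open Cfsg Cfsg.Agent.LieClassical.HermBasic Cfsg.Agent.ClassicalGeometry.UnitTransv
open Cfsg.Agent.SporadicStructure.UnitTwo Cfsg.Agent.H854.UForm Cfsg.Agent.H854.UGeo
open Cfsg.Agent.H854.UStab Cfsg.Agent.H854.UBlock
open scoped Matrix

variable {F : Type*} [Field F] [Fintype F] (hF : Fintype.card F = 2 ^ 2)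
include hF

/-- involutions commuting or braiding with all their conjugates are transvections -/
theorem involution_four (t : SU 4 F 2) (ht : t * t = 1) (ht1 : t ≠ 1)
    (hbr : ∀ g : SU 4 F 2, t * (g * t * g⁻¹) = (g * t * g⁻¹) * t ∨
      t * (g * t * g⁻¹) * t = (g * t * g⁻¹) * t * (g * t * g⁻¹)) :
    ∃ (v : Fin 4 → F) (hv : hermForm 4 F 2 v v = 0), v ≠ 0 ∧ t = T hF v hv := by
  obtain ⟨ω, hω⟩ := exists_omega hF
  have h2 := two_eq_zero hF
  have hω0 : ω ≠ 0 := by rintro rfl; simp at hω
  have hω3 := pow_three hF hω0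
  obtain ⟨x, hx, hs⟩ := exists_vec hF t ht ht1
  obtain ⟨r1, r2, r3⟩ := reduce hF t ht hx hs
  have htx : act t x = x + (act t x + x) := by
    rw [add_comm (act t x), ← add_assoc, vadd_self hF, zero_add]
  have hts : act t (act t x + x) = act t x + x := by
    rw [act_add, ← act_mul, ht, act_one, add_comm]
  have hs0 : act t x + x ≠ 0 := by
    intro h
    rw [h, herm_zero_right hF] at hx
    exact zero_ne_one hx
  obtain ⟨s, hsd⟩ : ∃ s, s = act t x + x := ⟨_, rfl⟩
  revert htx hts hs0 r1 r2 r3 hx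
  revert hs
  rw [← hsd]
  intro hs hx r1 r2 r3 htx hts hs0
  refine ⟨s, hs, hs0, ?_⟩
  by_cases h1 : T hF s hs * t = 1
  · have := eq_inv_of_mul_eq_one_right h1
    rw [this, T_inv]
  · exfalso
    obtain ⟨t1, ht1d⟩ : ∃ t1, t1 = T hF s hs * t := ⟨_, rfl⟩
    rw [← ht1d] at r1 r2 r3 h1
    have htt1 : t = T hF s hs * t1 := by rw [ht1d, ← mul_assoc, T_mul_self, one_mul]
    obtain ⟨y, hy, hs'⟩ := exists_vec hF _ r1 h1
    have e1 : hermForm 4 F 2 (act t1 y + y) x = 0 := by
      rw [sym hF _ r1, r2, vadd_self hF, herm_zero_right hF]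
    have e2 : hermForm 4 F 2 (act t1 y + y) s = 0 := by
      rw [sym hF _ r1, r3, vadd_self hF, herm_zero_right hF]
    have ht1y : act t1 y = y + (act t1 y + y) := by
      rw [add_comm (act t1 y), ← add_assoc, vadd_self hF, zero_add]
    have ht1s' : act t1 (act t1 y + y) = act t1 y + y := by
      rw [act_add, ← act_mul, r1, act_one, add_comm]
    obtain ⟨s', hs'd⟩ : ∃ s', s' = act t1 y + y := ⟨_, rfl⟩
    rw [← hs'd] at hy hs' e1 e2 ht1y ht1s'
    have hsx : hermForm 4 F 2 s x = 1 := by rw [herm_swap hF x s, hx, one_pow]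
    -- adjust y
    obtain ⟨α, hα⟩ : ∃ α, α = hermForm 4 F 2 y s := ⟨_, rfl⟩
    obtain ⟨β, hβ⟩ : ∃ β, β = hermForm 4 F 2 (y + α • x) x := ⟨_, rfl⟩
    obtain ⟨z, hz⟩ : ∃ z, z = y + α • x + β • s := ⟨_, rfl⟩
    have z1 : hermForm 4 F 2 z s = 0 := by
      rw [hz, herm_add_left, herm_add_left, herm_smul_left, herm_smul_left, hs, hx, ← hα]
      linear_combination α * h2
    have z2 : hermForm 4 F 2 z x = 0 := by
      rw [hz, herm_add_left, ← hβ, herm_smul_left, hsx]
      linear_combination β * h2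
    have z3 : hermForm 4 F 2 z s' = 1 := by
      rw [hz, herm_add_left, herm_add_left, herm_smul_left, herm_smul_left, hy,
        herm_eq_zero_swap hF e1, herm_eq_zero_swap hF e2, mul_zero, mul_zero, add_zero, add_zero]
    have z4 : act t1 z = z + s' := by
      rw [hz, act_add, act_add, act_smul, act_smul, r2, r3, ht1y]
      abel
    have z5 : act t z = z + s' := by
      rw [htt1, act_mul, z4]
      apply act_T_of_perp
      rw [herm_add_left, z1, e2, add_zero]
    have z6 : act t s' = s' := by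
      rw [htt1, act_mul, ht1s']
      exact act_T_of_perp hF _ hs _ e2
    -- orthonormal frames
    obtain ⟨c, c1, c2, c3⟩ := pairing hF hω hx hs
    obtain ⟨c', c1', c2', c3'⟩ := pairing hF hω z3 hs'
    have hta : act t (x + c • s) = x + c • s + s := by
      rw [act_add, act_smul, hts, htx]; abel
    have hta' : act t (z + c' • s') = z + c' • s' + s' := by
      rw [act_add, act_smul, z6, z5]; abel
    have htb : act t (x + c • s + s) = x + c • s := by
      rw [← hta, ← act_mul, ht, act_one]
    have htb' : act t (z + c' • s' + s') = z + c' • s' := by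
      rw [← hta', ← act_mul, ht, act_one]
    have o1 : hermForm 4 F 2 x z = 0 := herm_eq_zero_swap hF z2
    have o2 : hermForm 4 F 2 s z = 0 := herm_eq_zero_swap hF z1
    have o3 : hermForm 4 F 2 x s' = 0 := herm_eq_zero_swap hF e1
    have o4 : hermForm 4 F 2 s s' = 0 := herm_eq_zero_swap hF e2
    have k1 : hermForm 4 F 2 (x + c • s) (z + c' • s') = 0 := by
      simp only [herm_add_left, herm_add_right hF, herm_smul_left, herm_smul_right, o1, o2, o3, o4,
        mul_zero, add_zero]
    have k2 : hermForm 4 F 2 (x + c • s) (z + c' • s' + s') = 0 := by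
      simp only [herm_add_left, herm_add_right hF, herm_smul_left, herm_smul_right, o1, o2, o3, o4,
        mul_zero, add_zero]
    have k3 : hermForm 4 F 2 (x + c • s + s) (z + c' • s') = 0 := by
      simp only [herm_add_left, herm_add_right hF, herm_smul_left, herm_smul_right, o1, o2, o3, o4,
        mul_zero, add_zero]
    have k4 : hermForm 4 F 2 (x + c • s + s) (z + c' • s' + s') = 0 := by
      simp only [herm_add_left, herm_add_right hF, herm_smul_left, herm_smul_right, o1, o2, o3, o4,
        mul_zero, add_zero]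
    generalize x + c • s + s = b at *
    generalize x + c • s = a at *
    generalize z + c' • s' + s' = b' at *
    generalize z + c' • s' = a' at *
    -- now `a, b, a', b'` orthonormal, `t` swaps `a, b` and `a', b'`
    have d3 := iso_add hF c1 c2 c3
    have d4 := iso_add hF c2 c1' k3
    have d5 := iso_add hF c1 c2' k2
    have d6 : hermForm 4 F 2 (a + ω • b') (a + ω • b') = 0 :=
      iso_add hF c1 (norm_smul hF hω3 c2') (by rw [herm_smul_right, k2, mul_zero])
    obtain ⟨g, hg⟩ : ∃ g : SU 4 F 2, g = T hF _ d5 * T hF _ d6 * (T hF _ d3 * T hF _ d4) := ⟨_, rfl⟩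
    have ba := herm_eq_zero_swap hF c3
    have b'a' := herm_eq_zero_swap hF c3'
    have k1' := herm_eq_zero_swap hF k1
    have k2' := herm_eq_zero_swap hF k2
    have k3' := herm_eq_zero_swap hF k3
    have k4' := herm_eq_zero_swap hF k4
    have sm : ∀ q : Fin 4 → F, hermForm 4 F 2 q b' = 0 → hermForm 4 F 2 q (ω • b') = 0 := by
      intro q hq; rw [herm_smul_right, hq, mul_zero]
    have Da : act (T hF _ d5 * T hF _ d6) a = ω • a := by
      rw [act_mul, swap_left hF c1 (sm _ k2) d6, act_smul, swap_right hF c2' k2 d5]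
    have Db' : act (T hF _ d5 * T hF _ d6) b' = ω ^ 2 • b' := by
      have e0 : b' = ω ^ 2 • (ω • b') := by
        rw [smul_smul]
        have : ω ^ 2 * ω = 1 := by rw [← hω3]; ring
        rw [this, one_smul]
      nth_rewrite 3 [e0]
      rw [act_smul, act_mul, swap_right hF (norm_smul hF hω3 c2') (sm _ k2) d6,
        swap_left hF c1 k2 d5]
    have ga : act g a = b := by
      rw [hg, act_mul _ (T hF _ d3 * T hF _ d4), act_mul (T hF _ d3), swap_perp hF c3 k1 d4,
        swap_left hF c1 c3 d3, act_mul, swap_perp hF ba (sm _ k4) d6, swap_perp hF ba k4 d5]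
    have gb : act g b = a' := by
      rw [hg, act_mul _ (T hF _ d3 * T hF _ d4), act_mul (T hF _ d3), swap_left hF c2 k3 d4,
        swap_perp hF k1' k3' d3, act_mul, swap_perp hF k1' (sm _ c3') d6, swap_perp hF k1' c3' d5]
    have ga' : act g a' = ω • a := by
      rw [hg, act_mul _ (T hF _ d3 * T hF _ d4), act_mul (T hF _ d3), swap_right hF c1' k3 d4,
        swap_right hF c2 c3 d3, Da]
    have gb' : act g b' = ω ^ 2 • b' := by
      rw [hg, act_mul _ (T hF _ d3 * T hF _ d4), act_mul (T hF _ d3), swap_perp hF k4' b'a' d4,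
        swap_perp hF k2' k4' d3, Db']
    obtain ⟨t', ht'⟩ : ∃ t', t' = g * t * g⁻¹ := ⟨_, rfl⟩
    have hconj : ∀ q, act t' (act g q) = act g (act t q) := by
      intro q
      rw [ht', ← act_mul, ← act_mul]; congr 1; group
    have t'b : act t' b = a' := by rw [← ga, hconj, hta, gb]
    have t'a' : act t' a' = b := by rw [← gb, hconj, htb, ga]
    have t'a : act t' a = ω • b' := by
      have e0 : a = ω ^ 2 • (ω • a) := by
        rw [smul_smul]
        have : ω ^ 2 * ω = 1 := by rw [← hω3]; ring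
        rw [this, one_smul]
      have e1 : act t' (ω • a) = ω ^ 2 • b' := by rw [← ga', hconj, hta', gb']
      rw [e0, act_smul, e1, smul_smul]
      congr 1
      rw [← pow_add, show 2 + 2 = 3 + 1 by norm_num, pow_succ, hω3, one_mul]
    have hcon := hbr g
    rw [← ht'] at hcon
    rcases hcon with hcon | hcon
    · have h3 := congrArg (fun k => act k a) hcon
      simp only [act_mul] at h3
      rw [t'a, act_smul, htb', hta, t'b] at h3
      have h4 := congrArg (fun q => hermForm 4 F 2 q a') h3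
      simp only [herm_smul_left, c1'] at h4
      grind
    · have h3 := congrArg (fun k => act k a) hcon
      simp only [act_mul] at h3
      rw [hta, t'b, hta', t'a, act_smul, htb', act_smul, t'a'] at h3
      have h4 := congrArg (fun q => hermForm 4 F 2 q b') h3
      simp only [herm_smul_left, c2', k4, mul_zero] at h4
      exact one_ne_zero h4


/-- multiplying one vector of an orthonormal pair by a cube root of unity -/
theorem scale_pair {a b : Fin 4 → F} (ha : hermForm 4 F 2 a a = 1) (hb : hermForm 4 F 2 b b = 1)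
    (hab : hermForm 4 F 2 a b = 0) {μ : F} (hμ : μ ^ 3 = 1) :
    ∃ g : SU 4 F 2, act g a = μ • a ∧ ∀ x, hermForm 4 F 2 x a = 0 → hermForm 4 F 2 x b = 0 →
      act g x = x := by
  have h1 := iso_add hF ha hb hab
  have hab' : hermForm 4 F 2 a (μ • b) = 0 := by rw [herm_smul_right, hab, mul_zero]
  have h2 := iso_add hF ha (norm_smul hF hμ hb) hab'
  refine ⟨T hF _ h1 * T hF _ h2, ?_, fun x hxa hxb => ?_⟩
  · rw [act_mul, swap_left hF ha hab' h2, act_smul, swap_right hF hb hab h1]
  · rw [act_mul, swap_perp hF hxa (by rw [herm_smul_right, hxb, mul_zero]) h2,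
      swap_perp hF hxa hxb h1]

theorem scale_iso {v : Fin 4 → F} (hv : hermForm 4 F 2 v v = 0) (hv0 : v ≠ 0) {μ : F}
    (hμ : μ ^ 3 = 1) : ∃ g : SU 4 F 2, act g v = μ • v := by
  obtain ⟨a, b, ha, hb, hab, rfl⟩ := split_iso hF hv hv0
  obtain ⟨c, hc, hca, hcb⟩ := perp2 hF (by norm_num) ha hb hab
  obtain ⟨d, hd, hda, hdb, hdc⟩ := perp3 hF le_rfl ha hb hc hab (herm_eq_zero_swap hF hca)
    (herm_eq_zero_swap hF hcb)
  obtain ⟨g, g1, g2⟩ := scale_pair hF ha hc (herm_eq_zero_swap hF hca) hμ
  obtain ⟨k, k1, k2⟩ := scale_pair hF hb hd (herm_eq_zero_swap hF hdb) hμ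
  refine ⟨g * k, ?_⟩
  rw [act_mul, act_add, k1, k2 a hab (herm_eq_zero_swap hF hda), act_add, g1, act_smul,
    g2 b (herm_eq_zero_swap hF hab) (herm_eq_zero_swap hF hcb), smul_add]

/-- transitivity on nonzero isotropic vectors -/
theorem iso_trans_four {v w : Fin 4 → F} (hv : hermForm 4 F 2 v v = 0) (hv0 : v ≠ 0)
    (hw : hermForm 4 F 2 w w = 0) (hw0 : w ≠ 0) : ∃ g : SU 4 F 2, act g v = w := by
  obtain ⟨g, c, hc, hg⟩ := exists_map hF v w hv0 hw0 hv hw
  have hc3 := pow_three hF hc
  obtain ⟨k, hk⟩ := scale_iso hF hw hw0 (μ := c ^ 2) (by rw [← pow_mul, mul_comm, pow_mul, hc3, one_pow])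
  refine ⟨k * g, ?_⟩
  rw [act_mul, hg, act_smul, hk, smul_smul]
  have : c * c ^ 2 = 1 := by rw [← hc3]; ring
  rw [this, one_smul]

/-- `SU_2(2)` is generated by transvections -/
theorem R_two : R (n := 2) hF = ⊤ := by
  have n00 : hermForm 2 F 2 (e 0) (e 0) = 1 := by rw [herm_e_right hF, e_self]
  have n11 : hermForm 2 F 2 (e 1) (e 1) = 1 := by rw [herm_e_right hF, e_self]
  have n10 : hermForm 2 F 2 (e 1) (e 0) = 0 := by rw [herm_e_right hF, e_ne (by decide)]
  have key : ∀ A : SU 2 F 2, act A (e 1) 1 = 0 → A ∈ R (n := 2) hF := by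
    intro A hA
    obtain ⟨v, hv⟩ : ∃ v, v = act A (e 1) := ⟨_, rfl⟩
    rw [← hv] at hA
    have h1 : hermForm 2 F 2 v v = 1 := by rw [hv, herm_act, n11]
    have h2 : v = v 0 • e 0 := by
      funext i
      rw [Pi.smul_apply, smul_eq_mul]
      fin_cases i
      · change v 0 = v 0 * e 0 0
        rw [e_self, mul_one]
      · change v 1 = v 0 * e 0 1
        rw [e_ne (by decide), mul_zero, hA]
    have h3 : hermForm 2 F 2 (e 1) v = 0 := by
      rw [h2, herm_smul_right, n10, mul_zero]
    have h4 := iso_add hF n11 h1 h3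
    have h5 : T hF _ h4 * A = 1 := by
      apply eq_one_of_fixes_one hF (by norm_num)
      intro i hi
      fin_cases i
      · simp at hi
      · change act (T hF _ h4 * A) (e 1) = e 1
        rw [act_mul, ← hv, swap_right hF h1 h3 h4]
    have h6 := eq_inv_of_mul_eq_one_right h5
    rw [h6]
    exact inv_mem (T_mem hF _ _)
  rw [eq_top_iff]
  intro A _
  by_cases hA : act A (e 1) 1 = 0
  · exact key A hA
  · have h4 := iso_add hF n11 n00 n10
    have h5 : T hF _ h4 * A ∈ R (n := 2) hF := by
      apply key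
      have h1 : hermForm 2 F 2 (act A (e 1)) (act A (e 1)) = 1 := by rw [herm_act, n11]
      rw [act_mul]
      generalize act A (e 1) = v at *
      rw [herm_self_eq hF, Fin.sum_univ_two, pow_three hF hA] at h1
      have h6 : v 0 = 0 := by
        have : v 0 ^ 3 = 0 := by linear_combination h1
        exact pow_eq_zero_iff (by norm_num) |>.1 this
      have h2 : v = v 1 • e 1 := by
        funext i
        rw [Pi.smul_apply, smul_eq_mul]
        fin_cases i
        · change v 0 = v 1 * e 1 0
          rw [e_ne (by decide), mul_zero, h6]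
        · change v 1 = v 1 * e 1 1
          rw [e_self, mul_one]
      rw [h2, act_smul, swap_left hF n11 n10 h4, Pi.smul_apply, e_ne (by decide), smul_zero]
    have h6 := mul_mem (inv_mem (T_mem hF _ h4)) h5
    rwa [inv_mul_cancel_left] at h6

theorem conj_Ku {u : Fin 4 → F} (g : SU 4 F 2) {k : SU 4 F 2} (hk : k ∈ Ku hF u) :
    g * k * g⁻¹ ∈ Ku hF (act g u) := by
  have h1 : Ku hF u ≤ (Ku hF (act g u)).comap (MulAut.conj g).toMonoidHom := by
    conv_lhs => unfold Ku
    rw [Subgroup.closure_le]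
    rintro _ ⟨x, hx, _, hxu, rfl⟩
    change g * T hF x hx * g⁻¹ ∈ Ku hF (act g u)
    rw [conj_T hF g x hx (by rw [herm_act, hx])]
    apply T_mem_Ku
    rw [herm_act, hxu]
  exact h1 hk

theorem stab_std : stab (e 0 + e 1 : Fin 4 → F) ≤ Ku hF (e 0 + e 1) := by
  intro g hg
  obtain ⟨q, hq, A, hA⟩ := stab_reduce (m := 2) hF le_rfl g hg
  have h1 : ∀ B ∈ R (n := 2) hF, up (up B) ∈ Ku hF (e 0 + e 1 : Fin (2 + 2) → F) := by
    intro B hB
    unfold R at hB
    induction hB using Subgroup.closure_induction with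
    | mem x hx =>
      obtain ⟨v, hv, _, rfl⟩ := hx
      exact up_up_T hF hv
    | one => rw [up_one, up_one]; exact one_mem _
    | mul x y _ _ ihx ihy => rw [up_mul, up_mul]; exact mul_mem ihx ihy
    | inv x _ ih =>
      have h3 : up (up x⁻¹) = (up (up x))⁻¹ := by
        apply eq_inv_of_mul_eq_one_left
        rw [← up_mul, ← up_mul, inv_mul_cancel, up_one, up_one]
      rw [h3]
      exact inv_mem ih
  have h2 : q * g ∈ Ku hF (e 0 + e 1 : Fin (2 + 2) → F) := by
    rw [hA]
    apply h1
    rw [R_two hF]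
    exact Subgroup.mem_top _
  have h3 := mul_mem (inv_mem hq) h2
  rwa [inv_mul_cancel_left] at h3

theorem u_iso' : hermForm 4 F 2 (e 0 + e 1) (e 0 + e 1) = 0 := u_iso (m := 2) hF

omit hF [Fintype F] in
theorem u_ne : (e 0 + e 1 : Fin 4 → F) ≠ 0 := by
  intro h
  have := congrFun h 0
  rw [Pi.add_apply, e_self, e_ne (by decide), add_zero] at this
  exact one_ne_zero this

/-- **The stabiliser of an isotropic vector is generated by transvections.** -/
theorem stab_four {v : Fin 4 → F} (hv : hermForm 4 F 2 v v = 0) (hv0 : v ≠ 0) :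
    stab v ≤ Ku hF v := by
  obtain ⟨k, hk⟩ := iso_trans_four hF (u_iso' hF) u_ne hv hv0
  intro g hg
  have h1 : k⁻¹ * g * k ∈ stab (e 0 + e 1 : Fin 4 → F) := by
    change act (k⁻¹ * g * k) (e 0 + e 1) = e 0 + e 1
    rw [act_mul, act_mul, hk, show act g v = v from hg, ← hk, act_inv_act]
  have h2 := conj_Ku hF k (stab_std hF h1)
  rw [hk] at h2
  have e1 : k * (k⁻¹ * g * k) * k⁻¹ = g := by group
  rwa [e1] at h2

/-! ### Diagonal elements -/

/-- the diagonal element with entries `a` -/
def Dg (a : Fin 4 → F) (g : SU 4 F 2) : Prop := ∀ x i, act g x i = a i * x i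

theorem exists_Dg {a : Fin 4 → F} (h3 : ∀ i, a i ^ 3 = 1) (hp : a 0 * a 1 * a 2 * a 3 = 1) :
    ∃ g, Dg a g := by
  have hM : ∀ x : Fin 4 → F, Matrix.diagonal a *ᵥ x = fun i => a i * x i := by
    intro x
    funext i
    rw [Matrix.mulVec_diagonal]
  refine ⟨mk (Matrix.diagonal a) ?_ ?_, ?_⟩
  · rw [Matrix.det_diagonal, Fin.prod_univ_four, hp]
  · intro x y
    rw [hM, hM, herm_def, herm_def]
    apply Finset.sum_congr rfl
    intro i _
    have := h3 i
    linear_combination (x i * y i ^ 2) * this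
  · intro x i
    rw [act_mk, hM]

end Cfsg.Agent.H324.SUFour
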