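import Cfsg.Agent.H324.SUFour.Fix

/-!
# 3-transposition groups `G` with `G / V = SU_4(2)`: the torus
-/

set_option autoImplicit false
set_option linter.unusedSectionVars false

namespace Cfsg.Agent.H324.SUFour

open Cfsg Cfsg.Agent.LieClassical.HermBasic Cfsg.Agent.ClassicalGeometry.UnitTransv
open Cfsg.Agent.SporadicStructure.UnitTwo Cfsg.Agent.H854.UForm Cfsg.Agent.H854.UGeo
open Cfsg.Agent.H854.UStab Cfsg.Agent.H854.UBlock
open Cfsg.Agent.H854 Cfsg.Agent.H854.TM Cfsg.Agent.H854.ClassBasic Cfsg.Agent.H854.Ab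
open Subgroup
open scoped Matrix

universe u

variable {F : Type*} [Field F] [Fintype F]

namespace Dg

variable {a b : Fin 4 → F} {g k : SU 4 F 2}

theorem mul (h : Dg a g) (h' : Dg b k) : Dg (a * b) (g * k) := by
  intro x i
  rw [act_mul, h, h', Pi.mul_apply, mul_assoc]

theorem one : Dg (1 : Fin 4 → F) (1 : SU 4 F 2) := by
  intro x i
  rw [act_one, Pi.one_apply, one_mul]

theorem ne_zero (h : Dg a g) (i : Fin 4) : a i ≠ 0 := by
  intro h0
  have h1 : act g (e i) = 0 := by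
    funext j
    rw [h]
    by_cases hj : j = i
    · subst hj
      rw [h0, zero_mul]; rfl
    · rw [e_ne hj, mul_zero]; rfl
  have h2 : (e i : Fin 4 → F) = 0 := by rw [← act_inv_act g (e i), h1, act_zero]
  have h3 := congrFun h2 i
  rw [e_self] at h3
  exact one_ne_zero h3

theorem inv (h : Dg a g) : Dg (a⁻¹) g⁻¹ := by
  intro x i
  have h1 : act g (fun j => (a j)⁻¹ * x j) = x := by
    funext j
    rw [h, mul_inv_cancel_left₀ (h.ne_zero j)]
  rw [Sit.inv_act h1, Pi.inv_apply]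

theorem act_ones (h : Dg a g) : act g (fun _ => (1 : F)) = a := by
  funext i
  rw [h, mul_one]

theorem ext (h : Dg a g) (h' : Dg a k) : g = k := by
  apply ext_act
  intro x
  funext i
  rw [h, h']

theorem comm (h : Dg a g) (h' : Dg b k) : g * k = k * g := by
  apply (h.mul h').ext
  rw [mul_comm a b]
  exact h'.mul h

theorem cube (hF : Fintype.card F = 2 ^ 2) (h : Dg a g) (i : Fin 4) : a i ^ 3 = 1 :=
  pow_three hF (h.ne_zero i)

theorem prod (h : Dg a g) : a 0 * a 1 * a 2 * a 3 = 1 := by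
  have h1 : ((g : Matrix.SpecialLinearGroup (Fin 4) F) : Matrix (Fin 4) (Fin 4) F) =
      Matrix.diagonal a := by
    apply Matrix.ext_of_mulVec_single
    intro i
    have h2 : ((g : Matrix.SpecialLinearGroup (Fin 4) F) : Matrix (Fin 4) (Fin 4) F) *ᵥ
        Pi.single i 1 = act g (Pi.single i 1) := rfl
    rw [h2]
    funext j
    rw [h, Matrix.mulVec_diagonal]
  have h2 : ((g : Matrix.SpecialLinearGroup (Fin 4) F) : Matrix (Fin 4) (Fin 4) F).det = 1 :=
    g.1.2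
  rw [h1, Matrix.det_diagonal, Fin.prod_univ_four] at h2
  exact h2

end Dg

/-- the diagonal torus -/
def Tbar (F : Type*) [Field F] [Fintype F] : Subgroup (SU 4 F 2) where
  carrier := {g | ∃ a, Dg a g}
  mul_mem' := by
    rintro g k ⟨a, ha⟩ ⟨b, hb⟩
    exact ⟨_, ha.mul hb⟩
  one_mem' := ⟨_, Dg.one⟩
  inv_mem' := by
    rintro g ⟨a, ha⟩
    exact ⟨_, ha.inv⟩

theorem mem_Tbar {g : SU 4 F 2} : g ∈ Tbar F ↔ ∃ a, Dg a g := Iff.rfl

theorem Tbar_cube (hF : Fintype.card F = 2 ^ 2) {g : SU 4 F 2} (hg : g ∈ Tbar F) :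
    g * g * g = 1 := by
  obtain ⟨a, ha⟩ := hg
  apply ((ha.mul ha).mul ha).ext
  have : a * a * a = 1 := by
    funext i
    have := ha.cube hF i
    rw [Pi.mul_apply, Pi.mul_apply, Pi.one_apply, ← this]
    ring
  rw [this]
  exact Dg.one

theorem Tbar_pgroup (hF : Fintype.card F = 2 ^ 2) : IsPGroup 3 (Tbar F) := by
  rintro ⟨g, hg⟩
  refine ⟨1, ?_⟩
  apply Subtype.ext
  have := Tbar_cube hF hg
  change g ^ 3 ^ 1 = 1
  rw [pow_one, pow_succ, pow_two, this]

variable {G : Type u} [Group G]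

/-- a lift of the torus -/
structure Tor (π : G →* SU 4 F 2) (T : Subgroup G) : Prop where
  dg : ∀ t ∈ T, ∃ a, Dg a (π t)
  ex : ∀ (a : Fin 4 → F) (g : SU 4 F 2), Dg a g → ∃ t ∈ T, π t = g
  inj : ∀ t ∈ T, t ∈ π.ker → t = 1

theorem Sit.exists_tor [Finite G] {D : Set G} {π : G →* SU 4 F 2} (S : Sit D π)
    (hF : Fintype.card F = 2 ^ 2) : ∃ T : Subgroup G, Tor π T := by
  have : Fact (Nat.Prime 2) := ⟨Nat.prime_two⟩
  have : Fact (Nat.Prime 3) := ⟨Nat.prime_three⟩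
  have hfin : Finite (Tbar F) := inferInstance
  obtain ⟨P, hP⟩ : ∃ P, P = (Tbar F).comap π := ⟨_, rfl⟩
  have hVP : π.ker ≤ P := by
    rw [hP]
    intro x hx
    rw [mem_comap, show π x = 1 from hx]
    exact one_mem _
  have hidx : (π.ker.subgroupOf P).index = Nat.card (Tbar F) := by
    have h1 : π.ker.relIndex P = Nat.card (P.map π) := Subgroup.relIndex_ker P π
    rw [hP, map_comap_eq_self_of_surjective S.surj] at h1
    rw [← h1, ← hP]
    rfl
  have hco : Nat.Coprime (Nat.card (π.ker.subgroupOf P)) (π.ker.subgroupOf P).index := by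
    rw [hidx]
    have h1 : IsPGroup 2 (π.ker.subgroupOf P) :=
      S.two.of_injective ((MonoidHom.codRestrict (P.subtype.comp (π.ker.subgroupOf P).subtype)
        π.ker (fun x => x.2))) (by
          intro x y hxy
          have := congrArg Subtype.val hxy
          exact Subtype.ext (Subtype.ext this))
    obtain ⟨k, hk⟩ := IsPGroup.iff_card.1 h1
    obtain ⟨l, hl⟩ := IsPGroup.iff_card.1 (Tbar_pgroup hF)
    rw [hk, hl]
    exact Nat.Coprime.pow k l (by norm_num)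
  have hn : (π.ker.subgroupOf P).Normal := inferInstance
  obtain ⟨H, hH⟩ := Subgroup.exists_right_complement'_of_coprime hco
  refine ⟨H.map P.subtype, ?_, ?_, ?_⟩
  · rintro _ ⟨t, ht, rfl⟩
    have h1 : (t : G) ∈ (Tbar F).comap π := hP ▸ t.2
    exact h1
  · intro a g hg
    obtain ⟨y, rfl⟩ := S.surj g
    have hy : y ∈ P := by rw [hP]; exact ⟨a, hg⟩
    obtain ⟨⟨⟨n, hn⟩, ⟨k, hk⟩⟩, hnk⟩ := hH.2 ⟨y, hy⟩
    refine ⟨k, ⟨k, hk, rfl⟩, ?_⟩
    have h1 : (n : G) * (k : G) = y := congrArg Subtype.val hnk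
    have h2 : π (n : G) = 1 := hn
    rw [← h1, map_mul, h2, one_mul]
  · rintro _ ⟨t, ht, rfl⟩ h1
    have h2 : t ∈ (π.ker.subgroupOf P) ⊓ H := ⟨h1, ht⟩
    rw [hH.isCompl.inf_eq_bot] at h2
    rw [mem_bot.1 h2]
    rfl

namespace Tor

variable {π : G →* SU 4 F 2} {T : Subgroup G} (hT : Tor π T)
include hT

theorem eq_of_pi {t u : G} (ht : t ∈ T) (hu : u ∈ T) (h : π t = π u) : t = u := by
  have h1 := hT.inj (t * u⁻¹) (T.mul_mem ht (T.inv_mem hu)) (by
    rw [MonoidHom.mem_ker, map_mul, map_inv, h, mul_inv_cancel])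
  exact mul_inv_eq_one.1 h1

theorem comm {t u : G} (ht : t ∈ T) (hu : u ∈ T) : t * u = u * t := by
  apply hT.eq_of_pi (T.mul_mem ht hu) (T.mul_mem hu ht)
  obtain ⟨a, ha⟩ := hT.dg t ht
  obtain ⟨b, hb⟩ := hT.dg u hu
  rw [map_mul, map_mul, ha.comm hb]

theorem cube (hF : Fintype.card F = 2 ^ 2) {t : G} (ht : t ∈ T) : t * t * t = 1 := by
  apply hT.inj _ (T.mul_mem (T.mul_mem ht ht) ht)
  rw [MonoidHom.mem_ker, map_mul, map_mul]
  exact Tbar_cube hF (hT.dg t ht)

end Tor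

end Cfsg.Agent.H324.SUFour
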