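import Cfsg.Agent.H324.SUFour.Torus

/-!
# 3-transposition groups `G` with `G / V = SU_4(2)`: points of weight two
-/

set_option autoImplicit false
set_option linter.unusedSectionVars false

namespace Cfsg.Agent.H324.SUFour

open Cfsg Cfsg.Agent.LieClassical.HermBasic Cfsg.Agent.ClassicalGeometry.UnitTransv
open Cfsg.Agent.SporadicStructure.UnitTwo Cfsg.Agent.H854.UForm Cfsg.Agent.H854.UGeo
open Cfsg.Agent.H854.UStab Cfsg.Agent.H854.UBlock
open Cfsg.Agent.H854 Cfsg.Agent.H854.TM Cfsg.Agent.H854.ClassBasic Cfsg.Agent.H854.Ab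
open Subgroup
open scoped Matrix

universe u

variable {F : Type*} [Field F] [Fintype F]

section weight

/-- the support -/
noncomputable def supp (v : Fin 4 → F) : Finset (Fin 4) := by
  classical exact Finset.univ.filter fun i => v i ≠ 0

theorem mem_supp {v : Fin 4 → F} {i : Fin 4} : i ∈ supp v ↔ v i ≠ 0 := by
  unfold supp
  simp

variable (hF : Fintype.card F = 2 ^ 2)
include hF

theorem even_weight {v : Fin 4 → F} (hv : hermForm 4 F 2 v v = 0) : Even (supp v).card := by
  classical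
  have h2 := two_eq_zero hF
  rw [herm_self_eq hF] at hv
  have h1 : ∑ i, v i ^ 3 = ((supp v).card : F) := by
    rw [Finset.card_eq_sum_ones, Nat.cast_sum]
    unfold supp
    rw [Finset.sum_filter]
    apply Finset.sum_congr rfl
    intro i _
    by_cases h : v i = 0
    · rw [if_neg (by simpa using h), h]
      ring
    · rw [if_pos h, pow_three hF h]
      simp
  rw [h1] at hv
  by_contra hodd
  rw [Nat.not_even_iff_odd] at hodd
  obtain ⟨k, hk⟩ := hodd
  rw [hk] at hv
  push_cast at hv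
  apply one_ne_zero (α := F)
  linear_combination hv - (k : F) * h2

theorem weight_two {v : Fin 4 → F} (hv : hermForm 4 F 2 v v = 0) (hv0 : v ≠ 0) {l : Fin 4}
    (hl : v l = 0) : (supp v).card = 2 := by
  classical
  have h1 := even_weight hF hv
  have h2 : (supp v).card ≠ 0 := by
    intro h
    apply hv0
    rw [Finset.card_eq_zero] at h
    funext i
    by_contra hi
    have : i ∈ supp v := mem_supp.2 hi
    rw [h] at this
    exact absurd this (Finset.notMem_empty _)
  have h3 : (supp v).card < 4 := by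
    have h4 : supp v ⊂ Finset.univ := by
      rw [Finset.ssubset_univ_iff]
      intro h
      have : l ∈ supp v := by rw [h]; exact Finset.mem_univ _
      exact mem_supp.1 this hl
    have := Finset.card_lt_card h4
    simpa using this
  obtain ⟨k, hk⟩ := h1
  omega

theorem weight_two_form {v : Fin 4 → F} (hv : hermForm 4 F 2 v v = 0) (hv0 : v ≠ 0) {l : Fin 4}
    (hl : v l = 0) : ∃ i j : Fin 4, i ≠ j ∧ v i ≠ 0 ∧ v j ≠ 0 ∧ v = v i • e i + v j • e j := by
  classical
  obtain ⟨i, j, hij, hs⟩ := Finset.card_eq_two.1 (weight_two hF hv hv0 hl)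
  refine ⟨i, j, hij, ?_, ?_, ?_⟩
  · apply mem_supp.1; rw [hs]; simp
  · apply mem_supp.1; rw [hs]; simp
  · funext k
    rw [Pi.add_apply, Pi.smul_apply, Pi.smul_apply, smul_eq_mul, smul_eq_mul]
    by_cases hk : k = i
    · subst hk
      rw [e_self, e_ne hij, mul_one, mul_zero, add_zero]
    · by_cases hk' : k = j
      · subst hk'
        rw [e_self, e_ne hk, mul_one, mul_zero, zero_add]
      · rw [e_ne hk, e_ne hk', mul_zero, mul_zero, add_zero]
        by_contra h
        have : k ∈ supp v := mem_supp.2 h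
        rw [hs] at this
        simp [hk, hk'] at this

theorem orth_of_no_common {v w : Fin 4 → F} (hv : hermForm 4 F 2 v v = 0) (hv0 : v ≠ 0)
    (hw : hermForm 4 F 2 w w = 0) (hw0 : w ≠ 0) {l m : Fin 4} (hl : v l = 0) (hm : w m = 0)
    (h : ∀ i, v i ≠ 0 ∨ w i ≠ 0) : hermForm 4 F 2 v w = 0 := by
  classical
  have h1 := weight_two hF hv hv0 hl
  have h2 := weight_two hF hw hw0 hm
  have h3 : supp v ∪ supp w = Finset.univ := by
    ext i
    simp only [Finset.mem_union, mem_supp, Finset.mem_univ, iff_true]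
    exact h i
  have h4 := Finset.card_union_add_card_inter (supp v) (supp w)
  rw [h3, h1, h2] at h4
  have h5 : (supp v ∩ supp w).card = 0 := by
    have : (Finset.univ : Finset (Fin 4)).card = 4 := by simp
    omega
  rw [Finset.card_eq_zero] at h5
  rw [herm_def]
  apply Finset.sum_eq_zero
  intro i _
  by_cases hi : v i = 0
  · rw [hi, zero_mul]
  · have : w i = 0 := by
      by_contra hw'
      have : i ∈ supp v ∩ supp w := Finset.mem_inter.2 ⟨mem_supp.2 hi, mem_supp.2 hw'⟩
      rw [h5] at this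
      exact absurd this (Finset.notMem_empty _)
    rw [this]
    ring

end weight

variable (hF : Fintype.card F = 2 ^ 2) {G : Type u} [Group G]

/-- the members attached to points of weight two -/
structure IsS2 (D : Set G) (π : G →* SU 4 F 2) (U : Subgroup G) (x : G) (v : Fin 4 → F) : Prop where
  mem : x ∈ D
  iso : hermForm 4 F 2 v v = 0
  ne : v ≠ 0
  zero : ∃ l, v l = 0
  img : π x = T hF v iso
  comm : ∀ t ∈ U, ∀ c : F, c ≠ 0 → act (π t) v = c • v → t * x = x * t

section

variable {D : Set G} {π : G →* SU 4 F 2} (S : Sit D π) {U : Subgroup G} (hU : Tor π U)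
  {ω : F} (hω : ω ^ 2 + ω + 1 = 0)

include hF hU hω

/-- the torus element acting as `ω` away from the coordinate `l` -/
theorem exists_tl (l : Fin 4) : ∃ t ∈ U, Dg (fun i => if i = l then 1 else ω) (π t) := by
  have hω0 : ω ≠ 0 := by rintro rfl; simp at hω
  have hω3 := pow_three hF hω0
  have hp : (if (0 : Fin 4) = l then 1 else ω) * (if (1 : Fin 4) = l then 1 else ω) *
      (if (2 : Fin 4) = l then 1 else ω) * (if (3 : Fin 4) = l then 1 else ω) = 1 := by
    have h3 : ω * ω * ω = 1 := by rw [← hω3]; ring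
    fin_cases l <;> simp [h3]
  obtain ⟨g, hg⟩ := exists_Dg hF (a := fun i => if i = l then 1 else ω) (by
    intro i
    by_cases h : i = l
    · simp [h]
    · simp [h, hω3]) hp
  obtain ⟨t, ht, rfl⟩ := hU.ex _ g hg
  exact ⟨t, ht, hg⟩

omit hF hU hω in
theorem act_tl {l : Fin 4} {g : SU 4 F 2} (hg : Dg (fun i => if i = l then 1 else ω) g)
    {v : Fin 4 → F} (hv : v l = 0) : act g v = ω • v := by
  funext i
  rw [hg, Pi.smul_apply, smul_eq_mul]
  by_cases h : i = l
  · subst h
    rw [hv, mul_zero, mul_zero]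
  · simp only [if_neg h]

include S

theorem exists_S2 {v : Fin 4 → F} (hv : hermForm 4 F 2 v v = 0) (hv0 : v ≠ 0) {l : Fin 4}
    (hl : v l = 0) : ∃ x, IsS2 hF D π U x v := by
  have hω0 : ω ≠ 0 := by rintro rfl; simp at hω
  have hω1 : ω ≠ 1 := by
    rintro rfl
    have := two_eq_zero hF
    apply one_ne_zero (α := F)
    linear_combination hω - this
  obtain ⟨t, ht, htd⟩ := exists_tl hF hU hω l
  have h1 := act_tl htd hl
  obtain ⟨x, hx, hT, hc⟩ := S.fix_exists hF hv hv0 (hU.cube hF ht) hω0 h1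
  refine ⟨x, hx, hv, hv0, ⟨l, hl⟩, hT, ?_⟩
  intro s hs c hc0 hsv
  have h2 := S.cls.conj s x hx
  have hsvv : hermForm 4 F 2 (act (π s) v) (act (π s) v) = 0 := by rw [herm_act, hv]
  have h3 := S.pi_conj hF s hv hT hsvv
  rw [T_smul' hF hv hsvv hc0 hsv] at h3
  have h4 : t * (s * x * s⁻¹) = (s * x * s⁻¹) * t := by
    have c1 : Commute t s := hU.comm ht hs
    have c2 : Commute t x := hc
    exact ((c1.mul_right c2).mul_right c1.inv_right).eq
  have h5 := S.fix_unique hF hx h2 (hT.trans h3.symm) hv hv0 hT hω0 hω1 h1 hc h4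
  rw [mul_inv_eq_iff_eq_mul] at h5
  exact h5

theorem S2_uniq {x y : G} {v : Fin 4 → F} (hx : IsS2 hF D π U x v) (hy : y ∈ D) (h : π x = π y)
    {l : Fin 4} (hl : v l = 0) {t : G} (ht : t ∈ U)
    (htd : Dg (fun i => if i = l then 1 else ω) (π t)) (hty : t * y = y * t) : y = x := by
  have hω0 : ω ≠ 0 := by rintro rfl; simp at hω
  have hω1 : ω ≠ 1 := by
    rintro rfl
    have := two_eq_zero hF
    apply one_ne_zero (α := F)
    linear_combination hω - this
  have h1 := act_tl htd hl
  exact S.fix_unique hF hx.mem hy h hx.iso hx.ne hx.img hω0 hω1 h1 (hx.comm t ht ω hω0 h1) hty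

theorem S2_inj {x y : G} {v w : Fin 4 → F} (hx : IsS2 hF D π U x v) (hy : IsS2 hF D π U y w)
    (h : π x = π y) : x = y := by
  have hω0 : ω ≠ 0 := by rintro rfl; simp at hω
  obtain ⟨l, hl⟩ := hx.zero
  obtain ⟨t, ht, htd⟩ := exists_tl hF hU hω l
  obtain ⟨c, hc, hcw⟩ := T_eq hF hx.iso hy.iso hx.ne (by rw [← hx.img, ← hy.img, h])
  have hl' : w l = 0 := by rw [hcw, Pi.smul_apply, hl, smul_zero]
  exact (S2_uniq hF S hU hω hx hy.mem h hl ht htd (hy.comm t ht ω hω0 (act_tl htd hl'))).symm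

omit hω in
theorem S2_conjU {x : G} {v : Fin 4 → F} (hx : IsS2 hF D π U x v) {t : G} (ht : t ∈ U) :
    IsS2 hF D π U (t * x * t⁻¹) (act (π t) v) := by
  have h1 : hermForm 4 F 2 (act (π t) v) (act (π t) v) = 0 := by rw [herm_act, hx.iso]
  refine ⟨S.cls.conj t x hx.mem, h1, ?_, ?_, S.pi_conj hF t hx.iso hx.img h1, ?_⟩
  · intro h
    apply hx.ne
    rw [← act_inv_act (π t) v, h, act_zero]
  · obtain ⟨l, hl⟩ := hx.zero
    obtain ⟨a, ha⟩ := hU.dg t ht
    exact ⟨l, by rw [ha, hl, mul_zero]⟩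
  · intro s hs c hc hsv
    have h2 : act (π s) v = c • v := by
      apply act_injective (π t)
      rw [← act_mul, ← map_mul, hU.comm ht hs, map_mul, act_mul, hsv, act_smul]
    have c1 : Commute s t := hU.comm hs ht
    have c2 : Commute s x := hx.comm s hs c hc h2
    exact ((c1.mul_right c2).mul_right c1.inv_right).eq

/-- weight two points: closure -/
theorem S2_conj {x y : G} {v w : Fin 4 → F} (hx : IsS2 hF D π U x v) (hy : IsS2 hF D π U y w) :
    ∃ u, IsS2 hF D π U (x * y * x⁻¹) u := by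
  have hω0 : ω ≠ 0 := by rintro rfl; simp at hω
  by_cases hcom : x * y = y * x
  · refine ⟨w, ?_⟩
    rw [hcom, mul_inv_cancel_right]
    exact hy
  have hvw : hermForm 4 F 2 v w ≠ 0 := by
    intro h
    exact hcom ((S.comm_iff_herm hF hx.mem hy.mem hx.iso hy.iso hx.img hy.img).2 h)
  obtain ⟨l', hl'⟩ := hx.zero
  obtain ⟨m', hm'⟩ := hy.zero
  obtain ⟨l, hl, hm⟩ : ∃ l, v l = 0 ∧ w l = 0 := by
    by_contra hno
    push Not at hno
    apply hvw
    apply orth_of_no_common hF hx.iso hx.ne hy.iso hy.ne hl' hm'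
    intro i
    by_cases hi : v i = 0
    · exact Or.inr (hno i hi)
    · exact Or.inl hi
  obtain ⟨t, ht, htd⟩ := exists_tl hF hU hω l
  have c1 : Commute t x := hx.comm t ht ω hω0 (act_tl htd hl)
  have c2 : Commute t y := hy.comm t ht ω hω0 (act_tl htd hm)
  have h1 : hermForm 4 F 2 (act (π x) w) (act (π x) w) = 0 := by rw [herm_act, hy.iso]
  have h2 := S.pi_conj hF x hy.iso hy.img h1
  have h3 : act (π x) w ≠ 0 := by
    intro h
    apply hy.ne
    rw [← act_inv_act (π x) w, h, act_zero]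
  have h4 : act (π x) w l = 0 := by
    rw [hx.img, act_T, Pi.add_apply, Pi.smul_apply, hl, hm, smul_zero, add_zero]
  obtain ⟨z, hz⟩ := exists_S2 hF S hU hω h1 h3 h4
  refine ⟨act (π x) w, ?_⟩
  have h5 := S2_uniq hF S hU hω hz (S.cls.conj x y hy.mem) (hz.img.trans h2.symm) h4 ht htd
    ((c1.mul_right c2).mul_right c1.inv_right).eq
  rw [h5]
  exact hz

/-- products of two members in one hyperbolic line belong to the torus -/
theorem S2_prod {x y : G} {v w : Fin 4 → F} (hx : IsS2 hF D π U x v) (hy : IsS2 hF D π U y w)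
    (hxy : x * y ≠ y * x) {t : G} (ht : t ∈ U) (htp : π t = π (x * y)) : t = x * y := by
  obtain ⟨c, hc⟩ : ∃ c, c = (x * y)⁻¹ * t := ⟨_, rfl⟩
  have hcV : c ∈ π.ker := by
    rw [hc, MonoidHom.mem_ker, map_mul, map_inv, htp, inv_mul_cancel]
  have hcs : ∀ s z, IsS2 hF D π U s z → c * s = s * c := by
    intro s z hs
    obtain ⟨u1, h1⟩ := S2_conj hF S hU hω hy hs
    obtain ⟨u2, h2⟩ := S2_conj hF S hU hω hx h1
    have h3 := S2_conjU hF S hU hs ht
    have h4 := S2_inj hF S hU hω h2 h3 (by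
      rw [map_mul, map_mul, map_mul, map_mul, map_mul, map_mul, htp, map_mul]
      simp only [map_inv, mul_inv_rev, map_mul, htp]
      group)
    have h5 : c * s * c⁻¹ = s := by
      rw [hc]
      calc (x * y)⁻¹ * t * s * ((x * y)⁻¹ * t)⁻¹ = (x * y)⁻¹ * (t * s * t⁻¹) * (x * y) := by group
        _ = (x * y)⁻¹ * (x * (y * s * y⁻¹) * x⁻¹) * (x * y) := by rw [h4]
        _ = s := by group
    rw [mul_inv_eq_iff_eq_mul] at h5
    exact h5
  have c1 : Commute c x := hcs x v hx
  have c2 : Commute c y := hcs y w hy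
  have c3 : Commute (x * y) c := (c1.mul_right c2).symm
  have e1 : t = x * y * c := by rw [hc]; group
  have h3 := hU.cube hF ht
  have h4 : (x * y) ^ 3 * c ^ 3 = 1 := by
    rw [← c3.mul_pow, ← e1, pow_succ, pow_two, h3]
  have h5 := S.cls.cube hx.mem hy.mem hxy
  have h6 : (x * y) ^ 3 = 1 := by rw [pow_succ, pow_two, h5]
  rw [h6, one_mul, pow_succ, pow_two, S.sq c hcV, one_mul] at h4
  rw [e1, h4, mul_one]

end

end Cfsg.Agent.H324.SUFour
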